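import Groth.Agent.FlatCrit65.Blow.RankGeneral
import Groth.Agent.FlatCrit65.Blow.Affine
import Mathlib

/-!
Freeness at generic points of fibres and invertible factors.
-/

set_option autoImplicit false
set_option linter.style.haveILetI false
set_option linter.unusedSectionVars false

universe u

open TensorProduct

noncomputable section

namespace Groth.Agent.FlatCrit65.GenFree

/-- A flat module over a local ring with maximal ideal extended from the base is free. -/
theorem free_of_flat_of_map_maximal {R L : Type u} [CommRing R] [CommRing L] [IsLocalRing L] [Algebra R L]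
    (p : Ideal R) (hp : p.map (algebraMap R L) = IsLocalRing.maximalIdeal L) (N : Type u) [AddCommGroup N]
    [Module L N] [Module R N] [IsScalarTower R L N] [Module.FinitePresentation L N] [Module.Flat R N] :
    Module.Free L N := by
  let 𝔪 := IsLocalRing.maximalIdeal L
  refine Module.free_of_maximalIdeal_rTensor_injective ?_
  let ψ : p → 𝔪 := fun c => ⟨algebraMap R L c, hp.le (Ideal.mem_map_of_mem _ c.2)⟩
  let θ : p ⊗[R] N →ₗ[R] 𝔪 ⊗[L] N := TensorProduct.lift (LinearMap.mk₂ R (fun c n => ψ c ⊗ₜ[L] n)
    (fun a b n => by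
      rw [← TensorProduct.add_tmul]
      congr 1
      exact Subtype.ext (map_add _ _ _))
    (fun c a n => by
      rw [TensorProduct.smul_tmul']
      congr 1
      refine Subtype.ext ?_
      show algebraMap R L (c * a) = c • algebraMap R L a
      rw [Algebra.smul_def, map_mul])
    (fun a m n => TensorProduct.tmul_add _ _ _)
    (fun c a n => TensorProduct.tmul_smul c (ψ a) n))
  have hsurj : Function.Surjective θ := by
    intro z
    induction z using TensorProduct.induction_on with
    | zero => exact ⟨0, map_zero _⟩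
    | tmul m n =>
      obtain ⟨m, hm⟩ := m
      have hm' : m ∈ Submodule.span L (algebraMap R L '' p) := hp.ge hm
      induction hm' using Submodule.span_induction generalizing n with
      | mem b hb =>
        obtain ⟨c, hc, rfl⟩ := hb
        exact ⟨⟨c, hc⟩ ⊗ₜ n, rfl⟩
      | zero => exact ⟨0, by rw [map_zero]; exact (TensorProduct.zero_tmul _ n).symm⟩
      | add a b ha hb ha' hb' =>
        obtain ⟨x, hx⟩ := ha' n (hp.le ha)
        obtain ⟨y, hy⟩ := hb' n (hp.le hb)
        exact ⟨x + y, by rw [map_add, hx, hy, ← TensorProduct.add_tmul]; rfl⟩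
      | smul l a ha ha' =>
        obtain ⟨x, hx⟩ := ha' (l • n) (hp.le ha)
        refine ⟨x, hx.trans ?_⟩
        rw [← TensorProduct.smul_tmul]
        rfl
    | add a b ha hb =>
      obtain ⟨x, rfl⟩ := ha
      obtain ⟨y, rfl⟩ := hb
      exact ⟨x + y, map_add _ _ _⟩
  have key : ∀ w, TensorProduct.lid L N (𝔪.subtype.rTensor N (θ w)) = TensorProduct.lid R N (p.subtype.rTensor N w) := by
    intro w
    induction w using TensorProduct.induction_on with
    | zero => simp
    | tmul c n => simp [θ, ψ]
    | add a b ha hb => simp only [map_add, ha, hb]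
  intro x y hxy
  obtain ⟨a, rfl⟩ := hsurj x
  obtain ⟨b, rfl⟩ := hsurj y
  have h1 : TensorProduct.lid R N (p.subtype.rTensor N a) = TensorProduct.lid R N (p.subtype.rTensor N b) := by
    rw [← key, ← key, hxy]
  exact congrArg θ (Module.Flat.rTensor_preserves_injective_linearMap p.subtype Subtype.val_injective
    ((TensorProduct.lid R N).injective h1))

/-- A finitely presented module free at a prime is free near it. -/
theorem exists_basis_away {B : Type u} [CommRing B] (q : Ideal B) [q.IsPrime] (N : Type u) [AddCommGroup N]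
    [Module B N] [Module.FinitePresentation B N]
    [Module.Free (Localization.AtPrime q) (LocalizedModule q.primeCompl N)] :
    ∃ (h : B) (r : ℕ), h ∉ q ∧
      Nonempty (Module.Basis (Fin r) (Localization (Submonoid.powers h)) (LocalizedModule.Away h N)) := by
  obtain ⟨h, hh, b, -⟩ := Module.FinitePresentation.exists_basis_localizedModule_powers q.primeCompl
    (LocalizedModule.mkLinearMap q.primeCompl N) (Localization.AtPrime q)
    (Module.finBasis (Localization.AtPrime q) (LocalizedModule q.primeCompl N))
  exact ⟨h, _, hh, ⟨b⟩⟩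

/-- A basis near the image of a prime gives a basis at the prime, after base change. -/
theorem free_localized_of_basis {R B' : Type u} [CommRing R] [CommRing B'] [Algebra R B'] (q : Ideal B') [q.IsPrime]
    (h : R) (hq : algebraMap R B' h ∉ q) (Rh : Type u) [CommRing Rh] [Algebra R Rh] [IsLocalization.Away h Rh]
    (N : Type u) [AddCommGroup N] [Module R N] (Nh : Type u) [AddCommGroup Nh] [Module R Nh] [Module Rh Nh]
    [IsScalarTower R Rh Nh] (l : N →ₗ[R] Nh) [IsLocalizedModule (Submonoid.powers h) l] {r : ℕ}
    (b : Module.Basis (Fin r) Rh Nh) :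
    Module.Free (Localization.AtPrime q) (LocalizedModule q.primeCompl (B' ⊗[R] N)) ∧
      Module.rank (Localization.AtPrime q) (LocalizedModule q.primeCompl (B' ⊗[R] N)) = r := by
  let L := Localization.AtPrime q
  have hu : IsUnit (algebraMap R L h) := by
    rw [IsScalarTower.algebraMap_apply R B' L]
    exact IsLocalization.map_units L (⟨algebraMap R B' h, hq⟩ : q.primeCompl)
  letI : Algebra Rh L := (IsLocalization.Away.lift h hu).toAlgebra
  haveI : IsScalarTower R Rh L := IsScalarTower.of_algebraMap_eq fun x =>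
    (IsLocalization.Away.lift_eq h hu x).symm
  have hbc : IsBaseChange Rh l := (isLocalizedModule_iff_isBaseChange (Submonoid.powers h) Rh l).1 ‹_›
  let e : LocalizedModule q.primeCompl (B' ⊗[R] N) ≃ₗ[L] L ⊗[Rh] Nh :=
    LocalizedModule.equivTensorProduct q.primeCompl (B' ⊗[R] N) ≪≫ₗ
      AlgebraTensorModule.cancelBaseChange R B' L L N ≪≫ₗ
      (AlgebraTensorModule.cancelBaseChange R Rh L L N).symm ≪≫ₗ LinearEquiv.baseChange Rh L _ _ hbc.equiv
  let b' : Module.Basis (Fin r) L (LocalizedModule q.primeCompl (B' ⊗[R] N)) := (b.baseChange L).map e.symm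
  refine ⟨Module.Free.of_basis b', ?_⟩
  rw [rank_eq_card_basis b', Fintype.card_fin]

/-- A factor of an invertible principal ideal is locally principal. -/
theorem exists_away_principal {R' : Type u} [CommRing R'] (I L : Ideal R') (k : R') (hk : IsSMulRegular R' k)
    (h : I * L = Ideal.span {k}) (p : Ideal R') [p.IsPrime] :
    ∃ v ∉ p, ∀ (R'' : Type u) [CommRing R''] [Algebra R' R''] [IsLocalization.Away v R''],
      ∃ γ : R'', IsSMulRegular R'' γ ∧ I.map (algebraMap R' R'') = Ideal.span {γ} := by
  obtain ⟨a, ha, b, hb, c, hc, hcp⟩ : ∃ a ∈ I, ∃ b ∈ L, ∃ c, c * k = a * b ∧ c ∉ p := by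
    by_contra hne
    push Not at hne
    have hle : I * L ≤ p * Ideal.span {k} := Submodule.mul_le.2 fun a ha b hb => by
      obtain ⟨c, hc⟩ := Ideal.mem_span_singleton'.1 (h.le (Submodule.mul_mem_mul ha hb))
      rw [← hc]
      exact Ideal.mul_mem_mul (hne a ha b hb c hc) (Ideal.mem_span_singleton_self k)
    obtain ⟨y, hy, hyk⟩ := Ideal.mem_mul_span_singleton.1 (hle (h.ge (Ideal.mem_span_singleton_self k)))
    have : y = 1 := sub_eq_zero.1 (hk.right_eq_zero_of_smul (by
      rw [smul_eq_mul, mul_sub, mul_comm, hyk, mul_one, sub_self]))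
    exact Ideal.IsPrime.ne_top ‹p.IsPrime› ((Ideal.eq_top_iff_one p).2 (this ▸ hy))
  refine ⟨c, hcp, fun R'' _ _ _ => ?_⟩
  have hu : IsUnit (algebraMap R' R'' c) := IsLocalization.Away.algebraMap_isUnit c
  refine ⟨algebraMap R' R'' a, ?_, le_antisymm ?_ ?_⟩
  · have hk' : IsSMulRegular R'' (algebraMap R' R'' k) := Blow.regular_localization (Submonoid.powers c) hk
    refine isSMulRegular_iff_right_eq_zero_of_smul.2 fun x hx => ?_
    refine hk'.right_eq_zero_of_smul (hu.mul_right_eq_zero.1 ?_)
    rw [smul_eq_mul] at hx ⊢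
    rw [← mul_assoc, ← map_mul, hc, map_mul, mul_assoc, mul_left_comm, hx, mul_zero]
  · rw [Ideal.map_le_iff_le_comap]
    intro a' ha'
    rw [Ideal.mem_comap]
    obtain ⟨e, he⟩ := Ideal.mem_span_singleton'.1 (h.le (Submodule.mul_mem_mul ha' hb))
    have key : a' * c = a * e := sub_eq_zero.1 (hk.right_eq_zero_of_smul (by
      rw [smul_eq_mul, mul_sub, sub_eq_zero]
      calc k * (a' * c) = a' * (c * k) := by ring
        _ = a * (a' * b) := by rw [hc]; ring
        _ = k * (a * e) := by rw [← he]; ring))
    obtain ⟨w, hw⟩ := hu.exists_right_inv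
    refine Ideal.mem_span_singleton'.2 ⟨algebraMap R' R'' e * w, ?_⟩
    calc algebraMap R' R'' e * w * algebraMap R' R'' a = algebraMap R' R'' (a * e) * w := by rw [map_mul]; ring
      _ = algebraMap R' R'' a' := by rw [← key, map_mul, mul_assoc, hw, mul_one]
  · rw [Ideal.span_singleton_le_iff_mem]
    exact Ideal.mem_map_of_mem _ ha

end Groth.Agent.FlatCrit65.GenFree
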