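import Groth.Agent.FlatCrit65.GenFree.Algebra
import Groth.Agent.FlatCrit65.Closed.Above
import Groth.Agent.RG29.Elem
import Mathlib

/-!
The rank ideal on a chart of a blow-up of the base.
-/

set_option autoImplicit false
set_option linter.style.haveILetI false
set_option linter.unusedSectionVars false

universe u

open TensorProduct
attribute [local instance] Algebra.TensorProduct.rightAlgebra

noncomputable section

namespace Groth.Agent.FlatCrit65.GenFree

/-- Finite presentation of a base change from a cover after inverting elements. -/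
theorem finitePresentation_tensor_of_cover {R L : Type u} [CommRing R] [CommRing L] [Algebra R L] (N : Type u)
    [AddCommGroup N] [Module R N] (s : Set R) (hs : Ideal.span (algebraMap R L '' s) = ⊤)
    (hN : ∀ a ∈ s, Module.FinitePresentation (Localization.Away a) (LocalizedModule (Submonoid.powers a) N)) :
    Module.FinitePresentation L (L ⊗[R] N) := by
  refine Module.FinitePresentation.of_localizationSpan (algebraMap R L '' s) hs fun x => ?_
  obtain ⟨_, a, ha, rfl⟩ := x
  let L' := Localization.Away (algebraMap R L a)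
  let Ra := Localization.Away a
  have hu : IsUnit (algebraMap R L' a) := by
    rw [IsScalarTower.algebraMap_apply R L L']
    exact IsLocalization.Away.algebraMap_isUnit _
  letI : Algebra Ra L' := (IsLocalization.Away.lift a hu).toAlgebra
  haveI : IsScalarTower R Ra L' := IsScalarTower.of_algebraMap_eq fun x =>
    (IsLocalization.Away.lift_eq a hu x).symm
  haveI := hN a ha
  haveI : Module.FinitePresentation Ra (Ra ⊗[R] N) :=
    Module.FinitePresentation.of_equiv (LocalizedModule.equivTensorProduct (Submonoid.powers a) N)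
  let e : LocalizedModule (Submonoid.powers (algebraMap R L a)) (L ⊗[R] N) ≃ₗ[L'] L' ⊗[Ra] (Ra ⊗[R] N) :=
    LocalizedModule.equivTensorProduct (Submonoid.powers (algebraMap R L a)) (L ⊗[R] N) ≪≫ₗ
      AlgebraTensorModule.cancelBaseChange R L L' L' N ≪≫ₗ
      (AlgebraTensorModule.cancelBaseChange R Ra L' L' N).symm
  exact Module.FinitePresentation.of_equiv e.symm

/-- Primes over the same prime have a common prime above in the tensor product. -/
theorem exists_prime_over {A R A' : Type u} [CommRing A] [CommRing R] [CommRing A'] [Algebra A R] [Algebra A A']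
    (Q : Ideal R) [Q.IsPrime] (P : Ideal A') [P.IsPrime]
    (h : Q.comap (algebraMap A R) = P.comap (algebraMap A A')) :
    ∃ Q' : Ideal (A' ⊗[A] R), Q'.IsPrime ∧ Q'.comap (algebraMap A' (A' ⊗[A] R)) = P ∧
      Q'.comap (algebraMap R (A' ⊗[A] R)) = Q := by
  let p := P.comap (algebraMap A A')
  haveI : p.IsPrime := Ideal.comap_isPrime _ _
  have hQ : p = Q.comap (algebraMap A R) := h.symm
  let a : p.ResidueField →+* Q.ResidueField := Ideal.ResidueField.map p Q (algebraMap A R) hQ
  let b : p.ResidueField →+* P.ResidueField := Ideal.ResidueField.map p P (algebraMap A A') rfl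
  obtain ⟨K, _, i, j, hij⟩ := exists_common_field a b
  let φA : A' →+* K := j.comp (algebraMap A' P.ResidueField)
  let φR : R →+* K := i.comp (algebraMap R Q.ResidueField)
  letI : Algebra A K := (φA.comp (algebraMap A A')).toAlgebra
  have hcompat : φR.comp (algebraMap A R) = φA.comp (algebraMap A A') := by
    ext x
    have := RingHom.congr_fun hij (algebraMap A p.ResidueField x)
    simp only [RingHom.comp_apply, a, b, Ideal.ResidueField.map_algebraMap] at this
    exact this
  let fA : A' →ₐ[A] K := { φA with commutes' := fun _ => rfl }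
  let fR : R →ₐ[A] K := { φR with commutes' := fun x => RingHom.congr_fun hcompat x }
  let φ : A' ⊗[A] R →ₐ[A] K := Algebra.TensorProduct.lift fA fR fun _ _ => .all _ _
  refine ⟨RingHom.ker φ.toRingHom, RingHom.ker_isPrime _, ?_, ?_⟩
  · ext x
    show φ (algebraMap A' (A' ⊗[A] R) x) = 0 ↔ x ∈ P
    rw [Algebra.TensorProduct.algebraMap_apply, Algebra.TensorProduct.lift_tmul]
    simp [fA, fR, φA, φR, Ideal.algebraMap_residueField_eq_zero]
  · ext x
    show φ (algebraMap R (A' ⊗[A] R) x) = 0 ↔ x ∈ Q
    rw [Algebra.TensorProduct.right_algebraMap_apply, Algebra.TensorProduct.lift_tmul]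
    simp [fA, fR, φA, φR, Ideal.algebraMap_residueField_eq_zero]

/-- The rank ideal of a chart. -/
theorem exists_chart_rank_ideal {A R A₁ : Type u} [CommRing A] [CommRing R] [CommRing A₁] [Algebra A R]
    [Algebra.FinitePresentation A R] [Module.Flat A R] (hgi : FlatCA.GeomIntegralFibres A R) [Algebra A A₁]
    (g : A₁) (r : ℕ) (N : Type u) [AddCommGroup N] [Module R N] [Module.Finite R N]
    (𝔞 : Ideal A)
    (h𝔞 : ∀ a ∈ 𝔞, Module.FinitePresentation (Localization.Away (algebraMap A R a))
      (LocalizedModule (Submonoid.powers (algebraMap A R a)) N))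
    (hcov : ∀ (P : Ideal A₁) [P.IsPrime], g ∉ P → ∃ a ∈ 𝔞, algebraMap A A₁ a ∉ P)
    (hrank : ∀ (P : Ideal A₁) [P.IsPrime], g ∉ P →
      ∃ h : R, h ∉ (P.comap (algebraMap A A₁)).map (algebraMap A R) ∧
        Nonempty (Module.Basis (Fin r) (Localization (Submonoid.powers h)) (LocalizedModule.Away h N))) :
    ∃ I : Ideal A₁, I.FG ∧ I.radical = (Ideal.span {g}).radical ∧
      ∀ (A' B' : Type u) [CommRing A'] [CommRing B'] [Algebra A₁ A'] [Algebra A A'] [IsScalarTower A A₁ A']
        [Algebra A B'] [Algebra A' B'] [Algebra R B'] [IsScalarTower A A' B'] [IsScalarTower A R B']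
        [Algebra.IsPushout A A' R B'] [Module.Flat A' B']
        (γ : A'), IsSMulRegular A' γ → I.map (algebraMap A₁ A') = Ideal.span {γ} →
        ∀ (P : Ideal A') [P.IsPrime], (P.map (algebraMap A' B')).IsPrime ∧
          (P.map (algebraMap A' B')).comap (algebraMap A' B') = P ∧
          ∃ h : B', h ∉ P.map (algebraMap A' B') ∧
            Nonempty (Module.Basis (Fin r) (Localization (Submonoid.powers h))
              (LocalizedModule.Away h (Blow.ST B' (algebraMap A' B' γ) (B' ⊗[R] N)))) := by
  let B := A₁ ⊗[A] R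
  have hgi' : FlatCA.GeomIntegralFibres A₁ B := RG29.geomIntegralFibres_of_forall fun L _ _ => by
    letI : Algebra A L := ((algebraMap A₁ L).comp (algebraMap A A₁)).toAlgebra
    haveI : IsScalarTower A A₁ L := .of_algebraMap_eq' rfl
    haveI : IsDomain (L ⊗[A] R) := RG29.isDomain_field_tensor hgi
    exact (Algebra.TensorProduct.cancelBaseChange A A₁ L L R).toRingEquiv.toMulEquiv.isDomain
  let M := B ⊗[R] N
  haveI : Algebra.IsPushout A A₁ R B := inferInstance
  have hfp : Module.FinitePresentation (Localization.Away (algebraMap A₁ B g))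
      (LocalizedModule (Submonoid.powers (algebraMap A₁ B g)) M) := by
    let L := Localization.Away (algebraMap A₁ B g)
    haveI : Module.FinitePresentation L (L ⊗[R] N) := by
      refine finitePresentation_tensor_of_cover N (algebraMap A R '' 𝔞) ?_ (by rintro _ ⟨a, ha, rfl⟩; exact h𝔞 a ha)
      by_contra hne
      obtain ⟨m, hm, hle⟩ := Ideal.exists_le_maximal _ hne
      let P := m.comap (algebraMap A₁ L)
      haveI : P.IsPrime := Ideal.comap_isPrime _ _
      have hgP : g ∉ P := fun hg => hm.ne_top (Ideal.eq_top_of_isUnit_mem _ hg (by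
        rw [IsScalarTower.algebraMap_apply A₁ B L]
        exact IsLocalization.Away.algebraMap_isUnit _))
      obtain ⟨a, ha, haP⟩ := hcov P hgP
      refine haP (show algebraMap A₁ L (algebraMap A A₁ a) ∈ m from ?_)
      have he : algebraMap A₁ L (algebraMap A A₁ a) = algebraMap R L (algebraMap A R a) := by
        rw [IsScalarTower.algebraMap_apply A₁ B L, IsScalarTower.algebraMap_apply R B L,
          ← IsScalarTower.algebraMap_apply A A₁ B, ← IsScalarTower.algebraMap_apply A R B]
      rw [he]
      exact hle (Ideal.subset_span ⟨_, ⟨a, ha, rfl⟩, rfl⟩)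
    let e : LocalizedModule (Submonoid.powers (algebraMap A₁ B g)) M ≃ₗ[L] L ⊗[R] N :=
      LocalizedModule.equivTensorProduct (Submonoid.powers (algebraMap A₁ B g)) M ≪≫ₗ
        AlgebraTensorModule.cancelBaseChange R B L L N
    exact Module.FinitePresentation.of_equiv (R := L) (M := L ⊗[R] N)
      (N := LocalizedModule (Submonoid.powers (algebraMap A₁ B g)) M) e.symm
  have hfree : ∀ (P : Ideal A₁) [P.IsPrime] [(P.map (algebraMap A₁ B)).IsPrime], g ∉ P →
      Module.Free (Localization.AtPrime (P.map (algebraMap A₁ B))) (LocalizedModule (P.map (algebraMap A₁ B)).primeCompl M) ∧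
      Module.rank (Localization.AtPrime (P.map (algebraMap A₁ B))) (LocalizedModule (P.map (algebraMap A₁ B)).primeCompl M) = r := by
    intro P _ _ hgP
    obtain ⟨h, hh, ⟨b⟩⟩ := hrank P hgP
    haveI := Blow.isDomain_fiber hgi (P.comap (algebraMap A A₁))
    let Q := (P.comap (algebraMap A A₁)).map (algebraMap A R)
    haveI : Q.IsPrime := Blow.isPrime_map _
    obtain ⟨Q', hQ', hQ'P, hQ'Q⟩ := exists_prime_over (A := A) Q P (Blow.under_map (S := R) _)
    have hle : P.map (algebraMap A₁ B) ≤ Q' := Ideal.map_le_iff_le_comap.2 hQ'P.ge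
    refine free_localized_of_basis (P.map (algebraMap A₁ B)) h (fun hhP => hh ?_) (Localization (Submonoid.powers h)) N
      (LocalizedModule.Away h N) (LocalizedModule.mkLinearMap (Submonoid.powers h) N) b
    exact hQ'Q.le (hle hhP)
  obtain ⟨I, hI, hrad, hkey⟩ := Blow.exists_rank_ideal_general (R := A₁) (S := B) hgi' g r M hfp hfree
  refine ⟨I, hI, hrad, fun A' B' _ _ _ _ _ _ _ _ _ _ _ _ γ hγ hmap P _ => ?_⟩
  letI : Algebra A₁ B' := ((algebraMap A' B').comp (algebraMap A₁ A')).toAlgebra
  haveI : IsScalarTower A₁ A' B' := .of_algebraMap_eq' rfl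
  haveI : IsScalarTower A A₁ B' := .of_algebraMap_eq fun x => by
    rw [IsScalarTower.algebraMap_apply A₁ A' B', ← IsScalarTower.algebraMap_apply A A₁ A',
      ← IsScalarTower.algebraMap_apply A A' B']
  let fA : A₁ →ₐ[A] B' := IsScalarTower.toAlgHom A A₁ B'
  let fR : R →ₐ[A] B' := IsScalarTower.toAlgHom A R B'
  let ψ : B →ₐ[A] B' := Algebra.TensorProduct.lift fA fR fun _ _ => .all _ _
  letI : Algebra B B' := ψ.toRingHom.toAlgebra
  haveI : IsScalarTower A₁ B B' := .of_algebraMap_eq fun x => by
    show algebraMap A₁ B' x = ψ (algebraMap A₁ B x)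
    rw [Algebra.TensorProduct.algebraMap_apply, Algebra.TensorProduct.lift_tmul, map_one, mul_one]
    rfl
  haveI : IsScalarTower R B B' := .of_algebraMap_eq fun x => by
    show algebraMap R B' x = ψ (algebraMap R B x)
    rw [Algebra.TensorProduct.right_algebraMap_apply, Algebra.TensorProduct.lift_tmul, map_one, one_mul]
    rfl
  haveI : Algebra.IsPushout A₁ A' B B' := (Algebra.IsPushout.comp_iff (R := A) (S := A₁) (T := A') (R' := R) (S' := B)).1 ‹_›
  haveI : Algebra.IsPushout A₁ B A' B' := Algebra.IsPushout.symm inferInstance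
  let φ : M →ₗ[B] B' ⊗[B] M := TensorProduct.mk B B' M 1
  obtain ⟨h, hh, hfree', hrk⟩ := hkey A' B' (B' ⊗[B] M) φ (TensorProduct.isBaseChange B M B') γ hγ hmap P
  haveI := Blow.isDomain_fiber_pushout hgi' (R' := A') (S' := B') P
  refine ⟨Blow.isPrime_map P, Blow.under_map P, h, hh, ?_⟩
  obtain ⟨e⟩ := Blow.st_congr (s := algebraMap A' B' γ) (AlgebraTensorModule.cancelBaseChange R B B' B' N)
  haveI : Nontrivial (Localization.Away h) := by
    haveI := Blow.isPrime_map (S := B') P
    exact OreLocalization.nontrivial_iff.2 fun ⟨n, hn⟩ => hh ((inferInstance : (P.map (algebraMap A' B')).IsPrime).mem_of_pow_mem n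
      (show h ^ n ∈ _ by rw [show h ^ n = 0 from hn]; exact Submodule.zero_mem _))
  haveI := hfree'
  haveI : Module.Finite (Localization.Away h) (LocalizedModule.Away h
      (Blow.ST B' (algebraMap A' B' γ) (B' ⊗[B] M))) :=
    Module.finite_of_rank_eq_nat hrk
  let b₀ : Module.Basis (Fin r) (Localization.Away h) (LocalizedModule.Away h
      (Blow.ST B' (algebraMap A' B' γ) (B' ⊗[B] M))) :=
    Module.finBasisOfFinrankEq _ _ (Module.finrank_eq_of_rank_eq hrk)
  exact ⟨b₀.map ((IsLocalizedModule.mapEquiv (Submonoid.powers h)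
    (LocalizedModule.mkLinearMap (Submonoid.powers h) _) (LocalizedModule.mkLinearMap (Submonoid.powers h) _)
    (Localization.Away h) e))⟩

end Groth.Agent.FlatCrit65.GenFree
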