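import Groth.Agent.FlatCrit65.GenFree.Ranks
import Groth.Agent.FlatCrit65.Blow.Separate
import Groth.Agent.Div89.BlowDom
import Mathlib

/-!
An admissible blow-up separating the closures of the pieces of constant rank.
-/

set_option autoImplicit false
set_option linter.style.haveILetI false
set_option backward.isDefEq.respectTransparency.types false

universe u

open CategoryTheory CategoryTheory.Limits AlgebraicGeometry TopologicalSpace Topology

noncomputable section

namespace Groth.Agent.FlatCrit65.GenFree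

/-- A blow-up on which a locally constant function on the open is constant near every point. -/
theorem exists_constant_blowUp {S : Scheme.{u}} [CompactSpace S] [QuasiSeparatedSpace S] (U : S.Opens)
    (hU : IsCompact (U : Set S)) (P : ℕ → S → Prop) (hopen : ∀ r, IsOpen {u | P r u})
    (hex : ∀ u ∈ U, ∃ r, P r u) (huniq : ∀ r r' u, P r u → P r' u → r = r') :
    ∃ (J : S.IdealSheafData) (S₁ : Scheme.{u}) (c : S₁ ⟶ S), BlowUp.IsBlowUp c J ∧ BlowUp.IsAdmissibleFor U J ∧
      (J.support : Set S) = (U : Set S)ᶜ ∧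
      ∀ s : S₁, ∃ (O : S₁.Opens) (r : ℕ), s ∈ O ∧ ∀ y ∈ O, c y ∈ U → P r (c y) := by
  classical
  obtain ⟨t, ht⟩ := hU.elim_finite_subcover (fun r => {u | P r u}) hopen
    (fun u hu => Set.mem_iUnion.2 (hex u hu))
  let idx : Fin t.card → ℕ := fun i => (t.equivFin.symm i).1
  let A : Fin t.card → Set U := fun i => {u | P (idx i) u.1}
  have hA : ∀ i, IsOpen (A i) := fun i => (hopen _).preimage continuous_subtype_val
  have hAc : ∀ i, IsClosed (A i) := fun i => by
    refine isOpen_compl_iff.1 (isOpen_iff_forall_mem_open.2 fun u hu => ?_)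
    obtain ⟨r, hr⟩ := hex u.1 u.2
    exact ⟨{v : U | P r v.1}, fun v hv hv' => hu (huniq _ _ _ hv hv' ▸ hr : P (idx i) u.1),
      (hopen r).preimage continuous_subtype_val, hr⟩
  haveI : CompactSpace U.toScheme := isCompact_iff_compactSpace.1 hU
  haveI : QuasiSeparatedSpace U.toScheme := quasiSeparatedSpace_of_quasiSeparated U.ι
  have hcons : ∀ i, IsConstructible (A i) := fun i =>
    IsCompact.isConstructible (X := U.toScheme) ((hAc i).isCompact (X := U.toScheme)) (hA i)
  choose I Sd cd hcd hI hdisj using fun i => Blow.exists_separating_blowUp U hU (A i) (A i)ᶜ (hAc i)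
    (hA i).isClosed_compl (hcons i) (hcons i).compl disjoint_compl_right
  obtain ⟨J₀, X', c₀, hc₀, hJ₀, hdom⟩ := Div89.exists_admissible_dominating U Sd cd I hcd hI
  obtain ⟨𝓚, h𝓚, h𝓚supp⟩ := H98Strict.exists_ideal_support U hU
  obtain ⟨S₁, c₁, hc₁⟩ := FBlow13.exists_isBlowUp_scheme X' (𝓚.comap c₀)
  have hsupp : ((J₀ * 𝓚).support : Set S) = (U : Set S)ᶜ := by
    rw [Scheme.IdealSheafData.support_mul, Closeds.coe_sup, h𝓚supp]
    exact Set.union_eq_right.2 hJ₀.2.subset_compl_right
  let c := c₁ ≫ c₀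
  have hc : BlowUp.IsBlowUp c (J₀ * 𝓚) := Div89.isBlowUp_comp hc₀ hc₁
  refine ⟨J₀ * 𝓚, S₁, c, hc, ⟨fun W => by
    rw [Scheme.IdealSheafData.ideal_mul]; exact (hJ₀.1 W).mul (h𝓚 W), by rw [hsupp]; exact disjoint_compl_left⟩,
    hsupp, fun s => ?_⟩
  let C : Fin t.card → Set S₁ := fun i => closure ((fun y => c y) ⁻¹' (Subtype.val '' A i))
  have hC : ∀ i, ∀ y, y ∈ C i → c y ∈ U → P (idx i) (c y) := by
    intro i y hy hyU
    by_contra hne
    obtain ⟨g, -, hg, -, -⟩ := hdom i
    let k := c₁ ≫ g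
    have hk : ∀ z, cd i (k z) = c z := fun z => by
      rw [← Scheme.Hom.comp_apply, show k ≫ cd i = c from by simp [k, c, hg]]
    refine Set.disjoint_left.1 (hdisj i) (?_ : k y ∈ closure ((cd i).base ⁻¹' (Subtype.val '' A i))) ?_
    · refine map_mem_closure k.continuous hy ?_
      intro z hz
      show cd i (k z) ∈ Subtype.val '' A i
      rw [hk]
      exact hz
    · refine subset_closure ?_
      show cd i (k y) ∈ Subtype.val '' (A i)ᶜ
      rw [hk]
      exact ⟨⟨c y, hyU⟩, hne, rfl⟩
  have hdense : Dense ((fun y => c y) ⁻¹' (U : Set S)) := by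
    obtain ⟨hdom, haff⟩ := H98Strict.dominant_compl hc.1
    let E : S₁.Opens := ((J₀ * 𝓚).comap c).support.compl
    haveI : IsSchemeTheoreticallyDominant E.ι := hdom
    haveI : IsAffineHom E.ι := haff
    have h := (inferInstance : IsDominant E.ι).1
    rw [DenseRange, Scheme.Opens.range_ι] at h
    refine h.mono fun y hy => ?_
    by_contra hyU
    refine hy ?_
    show y ∈ ((J₀ * 𝓚).comap c).support
    rw [Scheme.IdealSheafData.support_comap]
    exact hsupp.ge hyU
  have hcover : ∀ y, ∃ i, y ∈ C i := fun y => by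
    have hsub : (fun y => c y) ⁻¹' (U : Set S) ⊆ ⋃ i, C i := fun z hz => by
      obtain ⟨r, hr, hzr⟩ := Set.mem_iUnion₂.1 (ht hz)
      refine Set.mem_iUnion.2 ⟨t.equivFin ⟨r, hr⟩, subset_closure ⟨⟨c z, hz⟩, ?_, rfl⟩⟩
      show P (idx _) (c z)
      simp only [idx, Equiv.symm_apply_apply]
      exact hzr
    exact Set.mem_iUnion.1 ((closure_minimal hsub (isClosed_iUnion_of_finite fun i => isClosed_closure)) (hdense y))
  obtain ⟨i, hi⟩ := hcover s
  let B : Set (Fin t.card) := {j | s ∉ C j}
  let O : S₁.Opens := ⟨(⋃ j ∈ B, C j)ᶜ, (Set.toFinite B).isClosed_biUnion (fun j _ => isClosed_closure) |>.isOpen_compl⟩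
  refine ⟨O, idx i, fun h => ?_, fun y hy hyU => ?_⟩
  · obtain ⟨j, hj, hsj⟩ := Set.mem_iUnion₂.1 h
    exact hj hsj
  · obtain ⟨j, hj⟩ := hcover y
    have hsj : s ∈ C j := by
      by_contra h
      exact hy (Set.mem_iUnion₂.2 ⟨j, h, hj⟩)
    by_contra hne
    -- the closures of two pieces with different ranks do not meet
    have hij : idx j ≠ idx i := fun h => hne (h ▸ hC j y hj hyU)
    obtain ⟨g, -, hg, -, -⟩ := hdom i
    let k := c₁ ≫ g
    have hk : ∀ z, cd i (k z) = c z := fun z => by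
      rw [← Scheme.Hom.comp_apply, show k ≫ cd i = c from by simp [k, c, hg]]
    refine Set.disjoint_left.1 (hdisj i) (?_ : k s ∈ closure ((cd i).base ⁻¹' (Subtype.val '' A i))) ?_
    · refine map_mem_closure k.continuous hi ?_
      intro z hz
      show cd i (k z) ∈ Subtype.val '' A i
      rw [hk]
      exact hz
    · refine map_mem_closure k.continuous hsj ?_
      rintro z ⟨u, hu, huz⟩
      show cd i (k z) ∈ Subtype.val '' (A i)ᶜ
      rw [hk]
      exact ⟨u, fun hu' => hij (huniq _ _ _ hu hu'), huz⟩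

end Groth.Agent.FlatCrit65.GenFree
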