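import Groth.Agent.FlatCrit65.GenFree.Chart
import Groth.Agent.FlatCrit65.GenFree.Separate
import Groth.Agent.FlatCrit65.Etale.Flatten
import Groth.Agent.FlatCrit65.Blow.Composite
import Groth.Agent.Amp73.PullTensor
import Groth.Prelude.Def_FrameBundle
import Mathlib

/-!
A blow-up making the strict transform finite locally free on an open surjecting onto the base.
-/

set_option autoImplicit false
set_option linter.style.haveILetI false
set_option backward.isDefEq.respectTransparency.types false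

universe u

open CategoryTheory CategoryTheory.Limits AlgebraicGeometry TopologicalSpace Opposite TensorProduct
open Groth.Agent.QC70 Groth.Agent.QCPull72 Groth.Agent.Props58.LocFree

noncomputable section

namespace Groth.Agent.FlatCrit65.GenFree

theorem mem_basicOpen_iff {X : Scheme.{u}} {U : X.Opens} (hU : IsAffineOpen U) (a : Γ(X, U)) {x : X} (hx : x ∈ U) :
    x ∈ X.basicOpen a ↔ a ∉ (hU.primeIdealOf ⟨x, hx⟩).asIdeal := by
  have h : hU.fromSpec (hU.primeIdealOf ⟨x, hx⟩) ∈ X.basicOpen a ↔ a ∉ (hU.primeIdealOf ⟨x, hx⟩).asIdeal := by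
    show hU.primeIdealOf ⟨x, hx⟩ ∈ hU.fromSpec ⁻¹ᵁ X.basicOpen a ↔ _
    rw [hU.fromSpec_preimage_basicOpen]
    rfl
  rwa [show hU.fromSpec (hU.primeIdealOf ⟨x, hx⟩) = x from hU.fromSpec_primeIdealOf ⟨x, hx⟩] at h

theorem primeIdealOf_fromSpec {X : Scheme.{u}} {U : X.Opens} (hU : IsAffineOpen U) (P : PrimeSpectrum Γ(X, U)) :
    ∃ hx : hU.fromSpec P ∈ U, hU.primeIdealOf ⟨hU.fromSpec P, hx⟩ = P := by
  have hx : hU.fromSpec P ∈ U := hU.range_fromSpec.subset ⟨P, rfl⟩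
  exact ⟨hx, hU.fromSpec.isOpenEmbedding.injective (hU.fromSpec_primeIdealOf ⟨_, hx⟩)⟩

/-- Finite local freeness of the restriction to the open where there are local bases. -/
theorem exists_open_isFinLocFree {X : Scheme.{u}} (G : X.Modules) :
    ∃ V : X.Opens, FlatMod.IsFinLocFree ((Scheme.Modules.pullback V.ι).obj G) ∧
      ∀ (W : X.Opens) (n : ℕ) (s : Fin n → Γ(G, W)), StalkBasis s → W ≤ V := by
  let V : X.Opens := (sSup {W : X.Opens | ∃ (n : ℕ) (s : Fin n → Γ(G, W)), StalkBasis s} : X.Opens)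
  refine ⟨V, fun y => ?_, fun W n s hs => le_sSup ⟨n, s, hs⟩⟩
  obtain ⟨W₀, ⟨n, s, hs⟩, hy⟩ := Opens.mem_sSup.1 y.2
  let W : X.Opens := W₀
  obtain ⟨i⟩ := nonempty_iso_of_stalkBasis hs
  exact ⟨V.ι ⁻¹ᵁ W, n, hy, ⟨((Amp73.pullRestrictIso V.ι W).app G).symm ≪≫
      (Scheme.Modules.pullback (V.ι ∣_ W)).mapIso
        (((Scheme.Modules.restrictFunctorIsoPullback W.ι).app G).symm ≪≫ i) ≪≫
      FrB.pullbackFreeIso (V.ι ∣_ W) n⟩⟩

variable {X S : Scheme.{u}} (f : X ⟶ S) [IsAffineHom f] [LocallyOfFinitePresentation f] [Flat f]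
  [GeometricallyIntegral f] (U : S.Opens) (F : X.Modules) [F.IsQuasicoherent] [CohB1.IsFT F]

/-- The rank ideal on an affine open of a blow-up over an affine open of the base. -/
theorem exists_piece_ideal [QuasiSeparatedSpace S] (hU : IsCompact (U : Set S))
    (hfpU : CohB1.IsFP ((Scheme.Modules.pullback (f ⁻¹ᵁ U).ι).obj F))
    {V₀ : S.Opens} (hV₀ : IsAffineOpen V₀) {S₁ : Scheme.{u}} (c : S₁ ⟶ S) {V : S₁.Opens} (hV : IsAffineOpen V)
    (hle : V ≤ c ⁻¹ᵁ V₀) (r : ℕ) (hr : ∀ y ∈ V, c y ∈ U → HasRank f F r (c y))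
    (g : Γ(S₁, V)) (hg : ∀ y ∈ V, y ∈ S₁.basicOpen g ↔ c y ∈ U) :
    ∃ I : Ideal Γ(S₁, V), I.FG ∧ I.radical = (Ideal.span {g}).radical ∧
      ∀ (X' S' : Scheme.{u}) (p₁ : X' ⟶ X) (p₂ : X' ⟶ S') (c₂ : S' ⟶ S₁), IsPullback p₁ p₂ f (c₂ ≫ c) →
      ∀ (V' : S'.Opens) (hV' : IsAffineOpen V') (hV'le : V' ≤ c₂ ⁻¹ᵁ V) (γ : Γ(S', V')),
        IsSMulRegular Γ(S', V') γ → I.map (c₂.appLE V V' hV'le).hom = Ideal.span {γ} →
        ∀ (G : X'.Modules) [G.IsQuasicoherent],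
        letI : Algebra Γ(S', V') Γ(X', p₁ ⁻¹ᵁ (f ⁻¹ᵁ V₀) ⊓ p₂ ⁻¹ᵁ V') :=
          (p₂.appLE V' (p₁ ⁻¹ᵁ (f ⁻¹ᵁ V₀) ⊓ p₂ ⁻¹ᵁ V') inf_le_right).hom.toAlgebra
        Nonempty (Blow.ST Γ(X', p₁ ⁻¹ᵁ (f ⁻¹ᵁ V₀) ⊓ p₂ ⁻¹ᵁ V')
            (algebraMap Γ(S', V') Γ(X', p₁ ⁻¹ᵁ (f ⁻¹ᵁ V₀) ⊓ p₂ ⁻¹ᵁ V') γ)
            Γ((Scheme.Modules.pullback p₁).obj F, p₁ ⁻¹ᵁ (f ⁻¹ᵁ V₀) ⊓ p₂ ⁻¹ᵁ V') ≃ₗ[Γ(X', p₁ ⁻¹ᵁ (f ⁻¹ᵁ V₀) ⊓ p₂ ⁻¹ᵁ V')]
            Γ(G, p₁ ⁻¹ᵁ (f ⁻¹ᵁ V₀) ⊓ p₂ ⁻¹ᵁ V')) →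
        ∀ y ∈ V', ∃ (W : X'.Opens) (s : Fin r → Γ(G, W)), StalkBasis s ∧ ∃ x ∈ W, p₂ x = y := by
  let D := f ⁻¹ᵁ V₀
  have hD : IsAffineOpen D := hV₀.preimage f
  let R := Γ(X, D)
  let A := Γ(S, V₀)
  let A₁ := Γ(S₁, V)
  letI : Algebra A R := (f.appLE V₀ D le_rfl).hom.toAlgebra
  letI : Algebra A A₁ := (c.appLE V₀ V hle).hom.toAlgebra
  haveI : Algebra.FinitePresentation A R := f.finitePresentation_appLE hV₀ hD le_rfl
  haveI : Module.Flat A R := f.flat_appLE hV₀ hD le_rfl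
  let N := Γ(F, D)
  haveI : F.IsFiniteType := ‹CohB1.IsFT F›
  haveI : Module.Finite R N := finite_sections_of_isFiniteType F hD
  obtain ⟨𝔞, -, h𝔞U, h𝔞cov⟩ := Blow.exists_centre U hU hV₀
  have hpt : ∀ (P : Ideal A₁) [P.IsPrime], g ∉ P → ∃ (hy : hV.fromSpec ⟨P, ‹_›⟩ ∈ V), c (hV.fromSpec ⟨P, ‹_›⟩) ∈ U ∧
      (hV₀.primeIdealOf ⟨c (hV.fromSpec ⟨P, ‹_›⟩), hle hy⟩).asIdeal = P.comap (algebraMap A A₁) := by
    intro P _ hgP
    obtain ⟨hy, he⟩ := primeIdealOf_fromSpec hV ⟨P, ‹_›⟩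
    refine ⟨hy, (hg _ hy).1 ((mem_basicOpen_iff hV g hy).2 (by rw [he]; exact hgP)), ?_⟩
    have := congr($(IsAffineOpen.comap_primeIdealOf_appLE V₀ hV₀ V hV hle hy).1)
    rw [he] at this
    exact this.symm
  obtain ⟨I, hI, hrad, hkey⟩ := exists_chart_rank_ideal (A := A) (R := R) (A₁ := A₁) (geomIntegral_appLE f hV₀) g r N 𝔞
    (fun a ha => Blow.finitePresentation_away f U F hfpU hD (algebraMap A R a) (by
      show X.basicOpen ((f.appLE V₀ D le_rfl).hom a) ≤ _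
      rw [Scheme.basicOpen_appLE]
      exact inf_le_right.trans fun z hz => h𝔞U a ha hz))
    (fun P _ hgP => by
      obtain ⟨hy, hyU, hP⟩ := hpt P hgP
      obtain ⟨a, ha, hya⟩ := h𝔞cov _ (hle hy) hyU
      refine ⟨a, ha, fun h => ?_⟩
      have := (mem_basicOpen_iff hV₀ a (hle hy)).1 hya
      rw [hP] at this
      exact this h)
    (fun P _ hgP => by
      obtain ⟨hy, hyU, hP⟩ := hpt P hgP
      obtain ⟨W, s, hs, x, hxW, hxy⟩ := hr _ hy hyU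
      obtain ⟨hprime, -⟩ := prime_map_chart f hV₀ (P.comap (algebraMap A A₁))
      let q : PrimeSpectrum R := ⟨_, hprime⟩
      have hxD : x ∈ D := show f x ∈ V₀ from hxy ▸ hle hy
      have hsp : hD.fromSpec q ⤳ x := specializes_of_le hD hxD q (by
        have h := map_le_primeIdealOf f hV₀ hD (le_rfl : D ≤ f ⁻¹ᵁ V₀) hxD
        simp only [hxy] at h
        rw [hP] at h
        exact h)
      obtain ⟨hξ, hξq⟩ := primeIdealOf_fromSpec hD q
      obtain ⟨h, hhW, hξh⟩ := hD.exists_basicOpen_le (V := W) ⟨_, hsp.mem_open W.2 hxW⟩ hξ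
      refine ⟨h, ?_, ?_⟩
      · have := (mem_basicOpen_iff hD h hξ).1 hξh
        rw [hξq] at this
        exact this
      · let s' : Fin r → Γ(F, X.basicOpen h) := fun i => res F hhW (s i)
        have hs' := (hs.restrict hhW).bijective (le_rfl : X.basicOpen h ≤ X.basicOpen h)
        let φ : (Fin r → Γ(X, X.basicOpen h)) →ₗ[Γ(X, X.basicOpen h)] Γ(F, X.basicOpen h) :=
          Fintype.linearCombination Γ(X, X.basicOpen h) s'
        have hφ : Function.Bijective φ := by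
          convert hs' using 1
          funext a
          simp [φ, s', Fintype.linearCombination_apply, res_self]
        let b : Module.Basis (Fin r) Γ(X, X.basicOpen h) Γ(F, X.basicOpen h) :=
          Module.Basis.ofEquivFun (LinearEquiv.ofBijective φ hφ).symm
        letI := resAlg (X.basicOpen_le h)
        letI := resModule F (X.basicOpen_le h)
        haveI := isScalarTower_res F (X.basicOpen_le h)
        haveI := isLocalization_resAlg hD h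
        haveI := isLocalizedModule_resLin F (isLocAt_of_isQuasicoherent F hD) h
        exact exists_basis_model h Γ(X, X.basicOpen h) (Localization (Submonoid.powers h)) N Γ(F, X.basicOpen h)
          (LocalizedModule.Away h N) (resLin F (X.basicOpen_le h)) (LocalizedModule.mkLinearMap (Submonoid.powers h) N) b)
  refine ⟨I, hI, hrad, fun X' S' p₁ p₂ c₂ H V' hV' hV'le γ hγ hmap G _ eG y hy => ?_⟩
  have hV'0 : V' ≤ (c₂ ≫ c) ⁻¹ᵁ V₀ := fun z hz => by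
    show (c₂ ≫ c) z ∈ V₀
    rw [Scheme.Hom.comp_apply]
    exact hle (hV'le hz)
  let W' := p₁ ⁻¹ᵁ D ⊓ p₂ ⁻¹ᵁ V'
  have hW' : IsAffineOpen W' := Blow.isAffineOpen_chart H hV₀ hD le_rfl hV' hV'0
  let A' := Γ(S', V')
  let B' := Γ(X', W')
  letI : Algebra A₁ A' := (c₂.appLE V V' hV'le).hom.toAlgebra
  letI : Algebra A A' := ((c₂ ≫ c).appLE V₀ V' hV'0).hom.toAlgebra
  letI : Algebra A' B' := (p₂.appLE V' W' inf_le_right).hom.toAlgebra
  letI : Algebra R B' := (p₁.appLE D W' inf_le_left).hom.toAlgebra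
  letI : Algebra A B' := (f.appLE V₀ D le_rfl ≫ p₁.appLE D W' inf_le_left).hom.toAlgebra
  haveI : IsScalarTower A A₁ A' := .of_algebraMap_eq' (congrArg CommRingCat.Hom.hom
    (show (c₂ ≫ c).appLE V₀ V' hV'0 = c.appLE V₀ V hle ≫ c₂.appLE V V' hV'le by
      rw [Scheme.Hom.appLE_comp_appLE]))
  haveI : IsScalarTower A R B' := .of_algebraMap_eq' rfl
  have hpo := Blow.isPushout_chart H hV₀ hD le_rfl hV' hV'0
  haveI : IsScalarTower A A' B' := .of_algebraMap_eq' (congrArg CommRingCat.Hom.hom hpo.w)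
  haveI : Algebra.IsPushout A A' R B' := (CommRingCat.isPushout_iff_isPushout).1 hpo.flip
  haveI : Flat p₂ := MorphismProperty.of_isPullback H ‹Flat f›
  haveI : Module.Flat A' B' := p₂.flat_appLE hV' hW' inf_le_right
  obtain ⟨hprime, hover, h, hh, ⟨b⟩⟩ := hkey A' B' γ hγ hmap (hV'.primeIdealOf ⟨y, hy⟩).asIdeal
  obtain ⟨eG⟩ := eG
  obtain ⟨eM⟩ := Blow.st_congr (s := algebraMap A' B' γ) (sectionsPullbackEquiv p₁ F hD hW' inf_le_left)
  let e : Blow.ST B' (algebraMap A' B' γ) (B' ⊗[R] N) ≃ₗ[B'] Γ(G, W') := eM.symm ≪≫ₗ eG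
  letI := resAlg (X'.basicOpen_le h)
  letI := resModule G (X'.basicOpen_le h)
  haveI := isScalarTower_res G (X'.basicOpen_le h)
  haveI := isLocalization_resAlg hW' h
  haveI := isLocalizedModule_resLin G (isLocAt_of_isQuasicoherent G hW') h
  obtain ⟨b'⟩ := exists_basis_model h (Localization (Submonoid.powers h)) Γ(X', X'.basicOpen h)
    (Blow.ST B' (algebraMap A' B' γ) (B' ⊗[R] N)) (LocalizedModule.Away h (Blow.ST B' (algebraMap A' B' γ) (B' ⊗[R] N)))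
    Γ(G, X'.basicOpen h) (LocalizedModule.mkLinearMap (Submonoid.powers h) _)
    (resLin G (X'.basicOpen_le h) ∘ₗ e.toLinearMap) b
  refine ⟨X'.basicOpen h, fun i => b' i, stalkBasis_of_basis (hW'.basicOpen h) b', ?_⟩
  let q : PrimeSpectrum B' := ⟨_, hprime⟩
  obtain ⟨hx, hxq⟩ := primeIdealOf_fromSpec hW' q
  refine ⟨hW'.fromSpec q, (mem_basicOpen_iff hW' h hx).2 (by rw [hxq]; exact hh), ?_⟩
  have h1 := IsAffineOpen.comap_primeIdealOf_appLE (f := p₂) V' hV' W' hW' inf_le_right hx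
  rw [hxq] at h1
  have h2 : hV'.primeIdealOf ⟨p₂ (hW'.fromSpec q), hx.2⟩ = hV'.primeIdealOf ⟨y, hy⟩ :=
    h1.symm.trans (PrimeSpectrum.ext hover)
  have h3 := congrArg (fun P => hV'.fromSpec P) h2
  simp only [IsAffineOpen.fromSpec_primeIdealOf] at h3
  exact h3

/-- The strict transform becomes finite locally free on an open surjecting onto the base. -/
theorem exists_finLocFree_surjective [CompactSpace S] [QuasiSeparatedSpace S] (hU : IsCompact (U : Set S))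
    (hfpU : CohB1.IsFP ((Scheme.Modules.pullback (f ⁻¹ᵁ U).ι).obj F))
    (hflU : ∀ x : X, f.base x ∈ U → closure ({f.asFiber x} : Set (f.fiber (f.base x))) = Set.univ →
      FlatMod.IsFlatOverAt f F x) :
    ∃ (𝓘 : S.IdealSheafData) (S' : Scheme.{u}) (b : S' ⟶ S), BlowUp.IsBlowUp b 𝓘 ∧ BlowUp.IsAdmissibleFor U 𝓘 ∧
      ∀ (X' : Scheme.{u}) (p₁ : X' ⟶ X) (p₂ : X' ⟶ S'), IsPullback p₁ p₂ f b →
      ∀ (G : X'.Modules) (π : (Scheme.Modules.pullback p₁).obj F ⟶ G), BlowUp.IsStrictTransform p₁ (𝓘.comap f) F G π →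
        ∃ V : X'.Opens, FlatMod.IsFinLocFree ((Scheme.Modules.pullback V.ι).obj G) ∧ Function.Surjective (V.ι ≫ p₂).base := by
  classical
  obtain ⟨J, S₁, c, hc, hJ, hJsupp, hconst⟩ := exists_constant_blowUp U hU (HasRank f F)
    (fun r => isOpen_hasRank f F r) (fun u hu => exists_hasRank f F U hfpU hflU hu)
    (fun r r' u => hasRank_unique f F)
  haveI : IsProper c := RegImm10.BlowModel.isProper_of_isBlowUp hJ.1 hc
  haveI : CompactSpace S₁ := QuasiCompact.compactSpace_of_compactSpace c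
  haveI : QuasiSeparatedSpace S₁ := quasiSeparatedSpace_of_quasiSeparated c
  let U₁ := c ⁻¹ᵁ U
  have hU₁ : IsCompact (U₁ : Set S₁) := c.isCompact_preimage hU
  have hpiece : ∀ s : S₁, ∃ (V₀ : S.affineOpens) (V : S₁.affineOpens) (_ : V.1 ≤ c ⁻¹ᵁ V₀.1) (r : ℕ) (g : Γ(S₁, V.1)),
      s ∈ V.1 ∧ (∀ y ∈ V.1, c y ∈ U → HasRank f F r (c y)) ∧ (∀ y ∈ V.1, y ∈ S₁.basicOpen g ↔ c y ∈ U) := by
    intro s
    obtain ⟨V₀, hV₀, hsV₀, -⟩ := exists_isAffineOpen_mem_and_subset (show c s ∈ (⊤ : S.Opens) from trivial)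
    obtain ⟨O, r, hsO, hO⟩ := hconst s
    obtain ⟨V, hsV, hVle, g, -, hg⟩ := MP99.exists_nzd_le hc.1 s (W := c ⁻¹ᵁ V₀ ⊓ O) ⟨hsV₀, hsO⟩
    refine ⟨⟨V₀, hV₀⟩, V, hVle.trans inf_le_left, r, g, hsV, fun y hy => hO y (hVle hy).2, fun y hy => ?_⟩
    have hsupp : y ∈ (J.comap c).support ↔ c y ∉ U := by
      rw [Scheme.IdealSheafData.support_comap]
      show c y ∈ (J.support : Set S) ↔ _
      rw [hJsupp]
      rfl
    rw [Scheme.IdealSheafData.mem_support_iff_of_mem hy, hg, Scheme.mem_zeroLocus_iff] at hsupp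
    constructor
    · intro h
      by_contra hU'
      exact hsupp.2 hU' g (Ideal.mem_span_singleton_self g) h
    · intro h
      by_contra hne
      refine hsupp.1 (fun a ha hya => ?_) h
      obtain ⟨b, rfl⟩ := Ideal.mem_span_singleton'.1 ha
      rw [Scheme.basicOpen_mul] at hya
      exact hne hya.2
  choose V₀ V hVV₀ r g hsV hr hg using hpiece
  obtain ⟨t, ht⟩ := isCompact_univ.elim_finite_subcover (fun s => ((V s).1 : Set S₁)) (fun s => (V s).1.isOpen)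
    fun s _ => Set.mem_iUnion.2 ⟨s, hsV s⟩
  choose I hI hIrad hIkey using fun i : ↥(t : Set S₁) =>
    exists_piece_ideal f U F hU hfpU (V₀ i.1).2 c (V i.1).2 (hVV₀ i.1) (r i.1) (hr i.1) (g i.1) (hg i.1)
  have hnot : ∀ (i : ↥(t : Set S₁)) (y : S₁) (hy : y ∈ (V i.1).1),
      I i ≤ ((V i.1).2.primeIdealOf ⟨y, hy⟩).asIdeal ↔ c y ∉ U := by
    intro i y hy
    rw [← hg i.1 y hy, mem_basicOpen_iff (V i.1).2 _ hy, not_not]
    constructor
    · intro h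
      have h1 := Ideal.radical_mono h
      rw [hIrad, (((V i.1).2.primeIdealOf ⟨y, hy⟩).isPrime).radical] at h1
      exact h1 (Ideal.le_radical (Ideal.mem_span_singleton_self _))
    · intro h
      refine Ideal.le_radical.trans ((hIrad i).le.trans ?_)
      rw [(((V i.1).2.primeIdealOf ⟨y, hy⟩).isPrime).radical_le_iff, Ideal.span_singleton_le_iff_mem]
      exact h
  have hIcov : ∀ i : ↥(t : Set S₁), ∀ y ∈ (V i.1).1, y ∈ U₁ → ∃ a ∈ I i, y ∈ S₁.basicOpen a := by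
    intro i y hy hyU
    obtain ⟨a, ha, hay⟩ := SetLike.not_le_iff_exists.1 (fun h => (hnot i y hy).1 h hyU)
    exact ⟨a, ha, (mem_basicOpen_iff (V i.1).2 a hy).2 hay⟩
  obtain ⟨K, hK, hKfac⟩ := Blow.exists_common_centre U₁ hU₁ (fun i : ↥(t : Set S₁) => (V i.1).1) (fun i => (V i.1).2)
    I hI hIcov
  obtain ⟨S', c₂, hc₂⟩ := FBlow13.exists_isBlowUp_scheme S₁ K
  obtain ⟨𝓘, h𝓘, h𝓘supp, hb⟩ := Blow.exists_isBlowUp_comp hJ.1 hc K hK.1 hc₂
  have hsupp : (𝓘.support : Set S) = (U : Set S)ᶜ := by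
    rw [h𝓘supp, hJsupp]
    refine Set.union_eq_left.2 ?_
    rintro _ ⟨z, hz, rfl⟩
    exact fun hzU => Set.disjoint_left.1 hK.2 hz hzU
  refine ⟨𝓘, S', c₂ ≫ c, hb, ⟨h𝓘, by rw [hsupp]; exact disjoint_compl_left⟩, fun X' p₁ p₂ H G π hG => ?_⟩
  haveI := Etale.isQuasicoherent_strictTransform H 𝓘 hb.1 F G π hG
  obtain ⟨Vf, hVf, hmax⟩ := exists_open_isFinLocFree G
  refine ⟨Vf, hVf, fun y => ?_⟩
  suffices h : ∃ (W : X'.Opens) (n : ℕ) (s : Fin n → Γ(G, W)), StalkBasis s ∧ ∃ x ∈ W, p₂ x = y by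
    obtain ⟨W, n, s, hs, x, hx, hxy⟩ := h
    refine ⟨⟨x, hmax W n s hs hx⟩, ?_⟩
    show (Vf.ι ≫ p₂) ⟨x, hmax W n s hs hx⟩ = y
    rw [Scheme.Hom.comp_apply]
    exact hxy
  obtain ⟨s₀, hs₀, hys₀⟩ := Set.mem_iUnion₂.1 (ht (Set.mem_univ (c₂ y)))
  let i : ↥(t : Set S₁) := ⟨s₀, hs₀⟩
  obtain ⟨L, hL, hKeq⟩ := hKfac i
  obtain ⟨V₁, hyV₁, hV₁le, k, hkz, hk⟩ := MP99.exists_nzd_le hc₂.1 y (W := c₂ ⁻¹ᵁ (V i.1).1) hys₀
  have hIL : (I i).map (c₂.appLE (V i.1).1 V₁.1 hV₁le).hom * L.map (c₂.appLE (V i.1).1 V₁.1 hV₁le).hom =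
      Ideal.span {k} := by
    rw [← Ideal.map_mul, ← hKeq, ← hk, MP99.ideal_comap K c₂ (V i.1) V₁ hV₁le]
  have hkreg : IsSMulRegular Γ(S', V₁.1) k := isSMulRegular_iff_right_eq_zero_of_smul.2 fun z hz =>
    (mul_right_mem_nonZeroDivisors_eq_zero_iff hkz).1 (by rw [mul_comm]; exact hz)
  obtain ⟨v, hv, hprinc⟩ := exists_away_principal _ _ k hkreg hIL (V₁.2.primeIdealOf ⟨y, hyV₁⟩).asIdeal
  letI := resAlg (S'.basicOpen_le v)
  haveI := isLocalization_resAlg V₁.2 v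
  obtain ⟨γ₀, hγ₀, hmap₀⟩ := hprinc Γ(S', S'.basicOpen v)
  have hyv : y ∈ S'.basicOpen v := (mem_basicOpen_iff V₁.2 v hyV₁).2 hv
  obtain ⟨V', hyV', hV'le, t', ht'z, ht'⟩ := MP99.exists_nzd_le hb.1 y hyv
  have hV'V : V'.1 ≤ c₂ ⁻¹ᵁ (V i.1).1 := hV'le.trans ((S'.basicOpen_le v).trans hV₁le)
  let γ : Γ(S', V'.1) := S'.presheaf.map (homOfLE hV'le).op γ₀
  have hγz : γ ∈ nonZeroDivisors Γ(S', V'.1) :=
    MP99.map_mem_nonZeroDivisors (U := ⟨_, V₁.2.basicOpen v⟩) (V := V') hV'le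
      (mem_nonZeroDivisors_iff_left.2 fun z hz => hγ₀.right_eq_zero_of_smul hz)
  have hγreg : IsSMulRegular Γ(S', V'.1) γ := isSMulRegular_iff_right_eq_zero_of_smul.2 fun z hz =>
    (mul_right_mem_nonZeroDivisors_eq_zero_iff hγz).1 (by rw [mul_comm]; exact hz)
  have hmap : (I i).map (c₂.appLE (V i.1).1 V'.1 hV'V).hom = Ideal.span {γ} := by
    have e1 : c₂.appLE (V i.1).1 V'.1 hV'V = c₂.appLE (V i.1).1 V₁.1 hV₁le ≫
        S'.presheaf.map (homOfLE (S'.basicOpen_le v)).op ≫ S'.presheaf.map (homOfLE hV'le).op := by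
      rw [← Category.assoc, Scheme.Hom.appLE_map, Scheme.Hom.appLE_map]
    rw [e1, CommRingCat.hom_comp, CommRingCat.hom_comp, ← Ideal.map_map, ← Ideal.map_map]
    erw [hmap₀]
    rw [Ideal.map_span, Set.image_singleton]
  have hsame : ∀ P : PrimeSpectrum Γ(S', V'.1), γ ∈ P.asIdeal ↔ t' ∈ P.asIdeal := by
    intro P
    obtain ⟨hz, hzP⟩ := primeIdealOf_fromSpec V'.2 P
    set z := V'.2.fromSpec P
    have h1 : γ ∈ P.asIdeal ↔ c (c₂ z) ∉ U := by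
      rw [← hnot i (c₂ z) (hV'V hz), ← Ideal.span_singleton_le_iff_mem _, ← hmap, Ideal.map_le_iff_le_comap]
      have := congr($(IsAffineOpen.comap_primeIdealOf_appLE (V i.1).1 (V i.1).2 V'.1 V'.2 hV'V hz).1)
      rw [hzP] at this
      rw [← this]
      rfl
    have h2 : t' ∈ P.asIdeal ↔ c (c₂ z) ∉ U := by
      have h3 : z ∈ (𝓘.comap (c₂ ≫ c)).support ↔ c (c₂ z) ∉ U := by
        rw [Scheme.IdealSheafData.support_comap]
        show (c₂ ≫ c) z ∈ (𝓘.support : Set S) ↔ _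
        rw [hsupp, Scheme.Hom.comp_apply]
        rfl
      rw [← h3, Scheme.IdealSheafData.mem_support_iff_of_mem hz, ht', Scheme.mem_zeroLocus_iff]
      constructor
      · intro h a ha hza
        rw [mem_basicOpen_iff V'.2 a hz, hzP] at hza
        exact hza ((Ideal.span_singleton_le_iff_mem _).2 h ha)
      · intro h
        by_contra hne
        exact h t' (Ideal.mem_span_singleton_self t') ((mem_basicOpen_iff V'.2 t' hz).2 (by rw [hzP]; exact hne))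
    exact h1.trans h2.symm
  have hrad : ∀ a b : Γ(S', V'.1), (∀ P : PrimeSpectrum Γ(S', V'.1), a ∈ P.asIdeal → b ∈ P.asIdeal) →
      ∃ n : ℕ, a ∣ b ^ n := by
    intro a b h
    obtain ⟨n, hn⟩ : b ∈ (Ideal.span {a}).radical := by
      rw [Ideal.radical_eq_sInf, Ideal.mem_sInf]
      rintro P ⟨hPa, hP⟩
      exact h ⟨P, hP⟩ (hPa (Ideal.mem_span_singleton_self a))
    exact ⟨n, Ideal.mem_span_singleton.1 hn⟩
  let W' := p₁ ⁻¹ᵁ (f ⁻¹ᵁ (V₀ i.1).1) ⊓ p₂ ⁻¹ᵁ V'.1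
  have hV'0 : V'.1 ≤ (c₂ ≫ c) ⁻¹ᵁ (V₀ i.1).1 := fun z hz => by
    show (c₂ ≫ c) z ∈ (V₀ i.1).1
    rw [Scheme.Hom.comp_apply]
    exact hVV₀ i.1 (hV'V hz)
  have hW' : IsAffineOpen W' := Blow.isAffineOpen_chart H (V₀ i.1).2 ((V₀ i.1).2.preimage f) le_rfl V'.2 hV'0
  letI : Algebra Γ(S', V'.1) Γ(X', W') := (p₂.appLE V'.1 W' inf_le_right).hom.toAlgebra
  obtain ⟨n₁, hn₁⟩ := hrad γ t' fun P h => (hsame P).1 h
  obtain ⟨n₂, hn₂⟩ := hrad t' γ fun P h => (hsame P).2 h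
  obtain ⟨eG⟩ := Etale.strict_sections H 𝓘 hb.1 F G π hG hW' (algebraMap Γ(S', V'.1) Γ(X', W') t')
    (Blow.exceptional_ideal_chart H 𝓘 V'.2 hW' ht')
  have heq : FlatCA.powTorsion Γ(X', W') (algebraMap Γ(S', V'.1) Γ(X', W') γ) Γ((Scheme.Modules.pullback p₁).obj F, W') =
      FlatCA.powTorsion Γ(X', W') (algebraMap Γ(S', V'.1) Γ(X', W') t') Γ((Scheme.Modules.pullback p₁).obj F, W') :=
    le_antisymm (Blow.powTorsion_le_of_dvd (k := n₁) (by rw [← map_pow]; exact map_dvd _ hn₁) _)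
      (Blow.powTorsion_le_of_dvd (k := n₂) (by rw [← map_pow]; exact map_dvd _ hn₂) _)
  obtain ⟨W, s, hs, hx⟩ := hIkey i X' S' p₁ p₂ c₂ H V'.1 V'.2 hV'V γ hγreg hmap G
    ⟨Submodule.quotEquivOfEq _ _ heq ≪≫ₗ eG⟩ y hyV'
  exact ⟨W, _, s, hs, hx⟩

end Groth.Agent.FlatCrit65.GenFree
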