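import Groth.Agent.FlatCrit65.GenFree.Algebra
import Groth.Agent.FlatCrit65.Blow.Chart
import Groth.Agent.Props58.LocFree.Affine
import Groth.Agent.FlatMor67.FlatDiag
import Groth.Agent.FlatMor68.FlatSections
import Mathlib

/-!
The generic ranks along the fibres.
-/

set_option autoImplicit false
set_option linter.style.haveILetI false
set_option backward.isDefEq.respectTransparency.types false

universe u

open CategoryTheory CategoryTheory.Limits AlgebraicGeometry TopologicalSpace Opposite TensorProduct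
open Groth.Agent.QC70 Groth.Agent.Props58.LocFree

noncomputable section

namespace Groth.Agent.FlatCrit65.GenFree

/-- A basis over one model of a localization gives one over any other. -/
theorem exists_basis_model {R : Type u} [CommRing R] (h : R) (Rh Rh' : Type u) [CommRing Rh] [CommRing Rh']
    [Algebra R Rh] [Algebra R Rh'] [IsLocalization.Away h Rh] [IsLocalization.Away h Rh']
    (N Nh Nh' : Type u) [AddCommGroup N] [Module R N] [AddCommGroup Nh] [Module R Nh] [Module Rh Nh]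
    [IsScalarTower R Rh Nh] [AddCommGroup Nh'] [Module R Nh'] [Module Rh' Nh'] [IsScalarTower R Rh' Nh']
    (l : N →ₗ[R] Nh) [IsLocalizedModule (Submonoid.powers h) l] (l' : N →ₗ[R] Nh')
    [IsLocalizedModule (Submonoid.powers h) l'] {r : ℕ} (b : Module.Basis (Fin r) Rh Nh) :
    Nonempty (Module.Basis (Fin r) Rh' Nh') := by
  let φ : Rh ≃ₐ[R] Rh' := IsLocalization.algEquiv (Submonoid.powers h) Rh Rh'
  letI : Algebra Rh Rh' := φ.toRingEquiv.toRingHom.toAlgebra
  haveI : IsScalarTower R Rh Rh' := IsScalarTower.of_algebraMap_eq fun x => (φ.commutes x).symm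
  have h1 : IsBaseChange Rh l := (isLocalizedModule_iff_isBaseChange (Submonoid.powers h) Rh l).1 ‹_›
  have h2 : IsBaseChange Rh' l' := (isLocalizedModule_iff_isBaseChange (Submonoid.powers h) Rh' l').1 ‹_›
  let e : Rh' ⊗[Rh] Nh ≃ₗ[Rh'] Nh' :=
    LinearEquiv.baseChange Rh Rh' _ _ h1.equiv.symm ≪≫ₗ AlgebraTensorModule.cancelBaseChange R Rh Rh' Rh' N ≪≫ₗ h2.equiv
  exact ⟨(b.baseChange Rh').map e⟩

/-- Geometrically integral fibres on an affine chart. -/
theorem geomIntegral_appLE {X S : Scheme.{u}} (f : X ⟶ S) [IsAffineHom f] [GeometricallyIntegral f] {V : S.Opens}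
    (hV : IsAffineOpen V) :
    letI : Algebra Γ(S, V) Γ(X, f ⁻¹ᵁ V) := (f.appLE V (f ⁻¹ᵁ V) le_rfl).hom.toAlgebra
    FlatCA.GeomIntegralFibres Γ(S, V) Γ(X, f ⁻¹ᵁ V) := by
  letI : Algebra Γ(S, V) Γ(X, f ⁻¹ᵁ V) := (f.appLE V (f ⁻¹ᵁ V) le_rfl).hom.toAlgebra
  have hP : GeometricallyIntegral (f.resLE V (f ⁻¹ᵁ V) le_rfl) := by
    rw [Scheme.Hom.resLE_eq_morphismRestrict]; infer_instance
  exact (FlatMor67.resLE_iff_specMap @GeometricallyIntegral f (hV.preimage f) hV le_rfl).1 hP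

section

variable {X S : Scheme.{u}} (f : X ⟶ S) {V : S.Opens} (hV : IsAffineOpen V) {D : X.Opens} (hD : IsAffineOpen D)
  (e : D ≤ f ⁻¹ᵁ V)

/-- The prime of a point contains the extension of the prime of its image. -/
theorem map_le_primeIdealOf {x : X} (hx : x ∈ D) :
    (hV.primeIdealOf ⟨f x, e hx⟩).asIdeal.map (f.appLE V D e).hom ≤ (hD.primeIdealOf ⟨x, hx⟩).asIdeal := by
  rw [Ideal.map_le_iff_le_comap]
  exact (congr($(IsAffineOpen.comap_primeIdealOf_appLE V hV D hD e hx).1)).ge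

/-- A prime below that of a point specializes to it. -/
theorem specializes_of_le {x : X} (hx : x ∈ D) (q : PrimeSpectrum Γ(X, D))
    (hq : q.asIdeal ≤ (hD.primeIdealOf ⟨x, hx⟩).asIdeal) : hD.fromSpec q ⤳ x := by
  have h := ((PrimeSpectrum.le_iff_specializes q (hD.primeIdealOf ⟨x, hx⟩)).1 hq).map hD.fromSpec.continuous
  rwa [hD.fromSpec_primeIdealOf ⟨x, hx⟩] at h

end

variable {X S : Scheme.{u}} (f : X ⟶ S) (F : X.Modules)

/-- There is an open set meeting the fibre on which the module has a basis of `r` sections. -/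
def HasRank (r : ℕ) (u : S) : Prop :=
  ∃ (W : X.Opens) (s : Fin r → Γ(F, W)), StalkBasis s ∧ ∃ x ∈ W, f x = u

theorem isOpen_hasRank [Flat f] [LocallyOfFinitePresentation f] (r : ℕ) : IsOpen {u | HasRank f F r u} := by
  refine isOpen_iff_forall_mem_open.2 ?_
  rintro u ⟨W, s, hs, x, hx, rfl⟩
  refine ⟨(fun x => f x) '' W, ?_, f.isOpenMap _ W.2, x, hx, rfl⟩
  rintro _ ⟨y, hy, rfl⟩
  exact ⟨W, s, hs, y, hy, rfl⟩

theorem hasRank_unique [GeometricallyIntegral f] {r r' : ℕ} {u : S} (h : HasRank f F r u)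
    (h' : HasRank f F r' u) : r = r' := by
  obtain ⟨W, s, hs, x, hx, hxu⟩ := h
  obtain ⟨W', s', hs', x', hx', hxu'⟩ := h'
  have hz : ∀ {y : X}, f y = u → ∃ z : f.fiber u, f.fiberι u z = y := fun {y} hy =>
    (f.range_fiberι u).ge hy
  obtain ⟨z, hz₁⟩ := hz hxu
  obtain ⟨z', hz₂⟩ := hz hxu'
  obtain ⟨w, hw, hw'⟩ := nonempty_preirreducible_inter ((W.2).preimage (f.fiberι u).continuous)
    ((W'.2).preimage (f.fiberι u).continuous) ⟨z, show f.fiberι u z ∈ W from hz₁ ▸ hx⟩
    ⟨z', show f.fiberι u z' ∈ W' from hz₂ ▸ hx'⟩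
  exact (hs.fiberRank_eq _ hw).symm.trans (hs'.fiberRank_eq _ hw')

variable [IsAffineHom f] [LocallyOfFinitePresentation f] [Flat f] [GeometricallyIntegral f]

/-- The extension of a prime of the base to a chart is prime and lies over it. -/
theorem prime_map_chart {V : S.Opens} (hV : IsAffineOpen V) (p : Ideal Γ(S, V)) [p.IsPrime] :
    (p.map (f.appLE V (f ⁻¹ᵁ V) le_rfl).hom).IsPrime ∧
      (p.map (f.appLE V (f ⁻¹ᵁ V) le_rfl).hom).comap (f.appLE V (f ⁻¹ᵁ V) le_rfl).hom = p := by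
  letI : Algebra Γ(S, V) Γ(X, f ⁻¹ᵁ V) := (f.appLE V (f ⁻¹ᵁ V) le_rfl).hom.toAlgebra
  haveI : Module.Flat Γ(S, V) Γ(X, f ⁻¹ᵁ V) := f.flat_appLE hV (hV.preimage f) le_rfl
  haveI : Algebra.FinitePresentation Γ(S, V) Γ(X, f ⁻¹ᵁ V) := f.finitePresentation_appLE hV (hV.preimage f) le_rfl
  haveI := Blow.isDomain_fiber (geomIntegral_appLE f hV) p
  exact ⟨Blow.isPrime_map p, Blow.under_map p⟩

/-- Over the open, every fibre has a rank. -/
theorem exists_hasRank [F.IsQuasicoherent] (U : S.Opens)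
    (hfpU : CohB1.IsFP ((Scheme.Modules.pullback (f ⁻¹ᵁ U).ι).obj F))
    (hflU : ∀ x : X, f.base x ∈ U → closure ({f.asFiber x} : Set (f.fiber (f.base x))) = Set.univ →
      FlatMod.IsFlatOverAt f F x) {u : S} (hu : u ∈ U) : ∃ r, HasRank f F r u := by
  obtain ⟨V, hV, huV, hVU⟩ := exists_isAffineOpen_mem_and_subset hu
  let D := f ⁻¹ᵁ V
  have hD : IsAffineOpen D := hV.preimage f
  let p := hV.primeIdealOf ⟨u, huV⟩
  obtain ⟨hprime, hover⟩ := prime_map_chart f hV p.asIdeal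
  let q : PrimeSpectrum Γ(X, D) := ⟨_, hprime⟩
  let ξ := hD.fromSpec q
  have hξ : ξ ∈ D := hD.range_fromSpec.subset ⟨q, rfl⟩
  have hξq : hD.primeIdealOf ⟨ξ, hξ⟩ = q :=
    hD.fromSpec.isOpenEmbedding.injective (hD.fromSpec_primeIdealOf ⟨ξ, hξ⟩)
  have hfξ : f ξ = u := by
    have h1 := IsAffineOpen.comap_primeIdealOf_appLE V hV D hD (le_rfl : D ≤ f ⁻¹ᵁ V) hξ
    rw [hξq] at h1
    have h2 : hV.primeIdealOf ⟨f ξ, hξ⟩ = p := h1.symm.trans (PrimeSpectrum.ext hover)
    have h3 := congrArg (fun P => hV.fromSpec P) h2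
    simp only [p, IsAffineOpen.fromSpec_primeIdealOf] at h3
    exact h3
  have hgen : closure ({f.asFiber ξ} : Set (f.fiber (f.base ξ))) = Set.univ := by
    refine Set.eq_univ_of_forall fun z => ?_
    rw [← specializes_iff_mem_closure, ← (f.fiberι (f ξ)).isEmbedding.isInducing.specializes_iff, Scheme.Hom.fiberι_asFiber]
    have hz : f (f.fiberι (f ξ) z) = f ξ := (f.range_fiberι (f ξ)).le ⟨z, rfl⟩
    have hzD : f.fiberι (f ξ) z ∈ D := show f (f.fiberι (f ξ) z) ∈ V by rw [hz, hfξ]; exact huV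
    refine specializes_of_le hD hzD q ?_
    have h := map_le_primeIdealOf f hV hD (le_rfl : D ≤ f ⁻¹ᵁ V) hzD
    simp only [hz, hfξ] at h
    exact h
  have hfl := hflU ξ (show f ξ ∈ U by rw [hfξ]; exact hu) hgen
  haveI hfp := Blow.finitePresentation_sections_above f U F hfpU hD (fun y hy => hVU hy)
  letI : Algebra Γ(S, V) Γ(X, D) := (f.appLE V D le_rfl).hom.toAlgebra
  have hM := isLocAt_of_isQuasicoherent F hD
  letI := stalkModule F hξ
  haveI hloc : IsLocalizedModule q.asIdeal.primeCompl (germLinear F hξ) := by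
    have := isLocalizedModule_germ hM hD hξ
    rwa [hξq] at this
  letI : Algebra Γ(X, D) (X.presheaf.stalk ξ) := (X.presheaf.germ D ξ hξ).hom.toAlgebra
  haveI hL : IsLocalization.AtPrime (X.presheaf.stalk ξ) q.asIdeal := by
    have := hD.isLocalization_stalk ⟨ξ, hξ⟩
    rwa [hξq] at this
  haveI : IsScalarTower Γ(X, D) (X.presheaf.stalk ξ) (F.presheaf.stalk ξ) :=
    IsScalarTower.of_algebraMap_smul fun _ _ => rfl
  letI : Algebra Γ(S, V) (X.presheaf.stalk ξ) :=
    ((X.presheaf.germ D ξ hξ).hom.comp (f.appLE V D le_rfl).hom).toAlgebra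
  haveI : IsScalarTower Γ(S, V) Γ(X, D) (X.presheaf.stalk ξ) := .of_algebraMap_eq' rfl
  letI : Module Γ(S, V) (F.presheaf.stalk ξ) :=
    Module.compHom _ ((X.presheaf.germ D ξ hξ).hom.comp (f.appLE V D le_rfl).hom)
  haveI : IsScalarTower Γ(S, V) (X.presheaf.stalk ξ) (F.presheaf.stalk ξ) :=
    IsScalarTower.of_algebraMap_smul fun _ _ => rfl
  haveI : Module.Flat Γ(S, V) (F.presheaf.stalk ξ) := by
    letI : Algebra Γ(S, V) (S.presheaf.stalk (f.base ξ)) :=
      (S.presheaf.germ V (f.base ξ) hξ).hom.toAlgebra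
    haveI : IsLocalization.AtPrime (S.presheaf.stalk (f.base ξ))
        (hV.primeIdealOf ⟨f.base ξ, hξ⟩).asIdeal := hV.isLocalization_stalk ⟨f.base ξ, hξ⟩
    haveI : Module.Flat Γ(S, V) (S.presheaf.stalk (f.base ξ)) :=
      IsLocalization.flat _ (hV.primeIdealOf ⟨f.base ξ, hξ⟩).asIdeal.primeCompl
    letI := FlatMod.moduleStalkOver f F ξ
    haveI : IsScalarTower Γ(S, V) (S.presheaf.stalk (f.base ξ)) (F.presheaf.stalk ξ) :=
      IsScalarTower.of_algebraMap_smul fun r s => by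
        change (f.stalkMap ξ).hom (S.presheaf.germ V (f.base ξ) hξ r) • s =
          (X.presheaf.germ D ξ hξ ((f.appLE V D le_rfl).hom r)) • s
        rw [FlatMor68.FlatSections.stalkMap_germ_appLE f (le_rfl : D ≤ f ⁻¹ᵁ V) hξ r]
    haveI : Module.Flat (S.presheaf.stalk (f.base ξ)) (F.presheaf.stalk ξ) := hfl
    exact Module.Flat.trans Γ(S, V) (S.presheaf.stalk (f.base ξ)) _
  haveI : Module.FinitePresentation (X.presheaf.stalk ξ) (F.presheaf.stalk ξ) := by
    have hbc := (isLocalizedModule_iff_isBaseChange q.asIdeal.primeCompl (X.presheaf.stalk ξ) (germLinear F hξ)).1 hloc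
    exact Module.FinitePresentation.of_equiv hbc.equiv
  have hmax : p.asIdeal.map (algebraMap Γ(S, V) (X.presheaf.stalk ξ)) = IsLocalRing.maximalIdeal (X.presheaf.stalk ξ) := by
    rw [IsScalarTower.algebraMap_eq Γ(S, V) Γ(X, D), ← Ideal.map_map]
    exact IsLocalization.AtPrime.map_eq_maximalIdeal q.asIdeal (X.presheaf.stalk ξ)
  haveI : Module.Free (X.presheaf.stalk ξ) (F.presheaf.stalk ξ) :=
    free_of_flat_of_map_maximal p.asIdeal hmax (F.presheaf.stalk ξ)
  obtain ⟨h, hh, b, -⟩ := Module.FinitePresentation.exists_basis_localizedModule_powers q.asIdeal.primeCompl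
    (germLinear F hξ) (X.presheaf.stalk ξ) (Module.finBasis (X.presheaf.stalk ξ) (F.presheaf.stalk ξ))
  letI := resAlg (X.basicOpen_le h)
  letI := resModule F (X.basicOpen_le h)
  haveI := isScalarTower_res F (X.basicOpen_le h)
  haveI := isLocalization_resAlg hD h
  haveI := isLocalizedModule_resLin F hM h
  obtain ⟨b'⟩ := exists_basis_model h (Localization (Submonoid.powers h)) Γ(X, X.basicOpen h) Γ(F, D)
    (LocalizedModule.Away h Γ(F, D)) Γ(F, X.basicOpen h)
    (LocalizedModule.mkLinearMap (Submonoid.powers h) Γ(F, D)) (resLin F (X.basicOpen_le h)) b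
  refine ⟨_, X.basicOpen h, fun i => b' i, stalkBasis_of_basis (hD.basicOpen h) b', ξ, ?_, hfξ⟩
  have : q ∈ hD.fromSpec ⁻¹ᵁ X.basicOpen h := by
    rw [hD.fromSpec_preimage_basicOpen]
    exact hh
  exact this

end Groth.Agent.FlatCrit65.GenFree
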